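import Cfsg.Agent.Omega.IId.SymMany.Four
import Cfsg.Agent.Omega.IId.Big.Syl.Hle
import Cfsg.Agent.Omega.NSix.Basic

/-!
# The END: `V_l ≤ V'` for `l ≠ i` and `C_G(n) ≤ N_G(V')`, `n = z_i = r_ab ∈ V'`, are contradictory (`n ≥ 9` labels)

`V' = ` the even-subset module of an odd number of labels.
* `even_unique`, `exists_even` : the even representative;
* `Hq` : the group of permutations induced by `Q_v`, `1 ≠ v ∈ V_l`; `wt_le_four` : `v` is an even set of at most 4 points;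
* `end_false`.
-/

set_option autoImplicit false
set_option linter.unusedSectionVars false

namespace Cfsg.Agent.Omega.IId.SymMany

open scoped Pointwise
open Subgroup Cfsg
open Cfsg.Agent.ZN (o2 zc)
open Cfsg.Agent.MinSimple.VModule (le_o2 le_normalizer_o2 mem_zc o2_isPGroup o2_le)
open Triangle (KK KK_conj KK_le_o2 mem_cent mem_KK mem_zpowers_iff_of_sq cent_conj o2_cent_conj)
open Cfsg.Agent.Omega.ThmC
open Cfsg.Agent.Omega.IId.Big
open Cfsg.Agent.Omega.S5.Def
open Cfsg.Agent.Omega.NSix.Base (zz rr)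

universe u

variable {G : Type u} [Group G]

section even

variable {n : ℕ} {V' L : Subgroup G} {ε : (Fin n → ZMod 2) → G} (ev : EvenSet n V' L ε)
include ev

theorem even_unique (hn : Odd n) {x y : Fin n → ZMod 2} (hx : ∑ t, x t = 0) (hy : ∑ t, y t = 0)
    (h : ε x = ε y) : x = y := by
  rcases ev.eq_iff.1 h with h1 | h1
  · exact h1
  · exfalso
    have h2 : ∑ t, x t = ∑ t, (y t + 1) := by rw [h1]; rfl
    rw [hx, Finset.sum_add_distrib, hy, zero_add, Finset.sum_const, Finset.card_univ, Fintype.card_fin,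
      nsmul_eq_mul, mul_one] at h2
    have h3 := (ZMod.natCast_eq_zero_iff _ _).1 h2.symm
    obtain ⟨k, hk⟩ := hn
    omega

theorem exists_even (hn : Odd n) {v : G} (hv : v ∈ V') : ∃ x, ε x = v ∧ ∑ t, x t = 0 := by
  obtain ⟨x, rfl⟩ := ev.surj v hv
  rcases z2c (∑ t, x t) with h1 | h1
  · exact ⟨x, rfl, h1⟩
  · refine ⟨x + 1, by rw [ev.add, ev.one, mul_one], ?_⟩
    have h2 : ∑ t, (x + 1) t = ∑ t, x t + ∑ _t : Fin n, (1 : ZMod 2) := Finset.sum_add_distrib
    rw [h2, h1, Finset.sum_const, Finset.card_univ, Fintype.card_fin, nsmul_eq_mul, mul_one]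
    obtain ⟨k, rfl⟩ := hn
    push_cast
    have h3 : (2 : ZMod 2) = 0 := by decide
    rw [h3, zero_mul, zero_add]
    decide

omit ev in
theorem sum_comp {x : Fin n → ZMod 2} (σ : Equiv.Perm (Fin n)) (hx : ∑ t, x t = 0) :
    ∑ t, (x ∘ σ.symm) t = 0 := by
  rw [← hx]
  exact Equiv.sum_comp σ.symm x

theorem acts_pow {g : G} {σ : Equiv.Perm (Fin n)} (hg : Acts ε g σ) : ∀ k : ℕ, Acts ε (g ^ k) (σ ^ k)
  | 0 => by rw [pow_zero, pow_zero]; exact Acts.one
  | k + 1 => by rw [pow_succ, pow_succ]; exact (acts_pow hg k).mul hg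

end even

section main

variable [Finite G] {ι : Type} {S : Subgroup G} {V : ι → Subgroup G} (h : Fr S V)
  {n : ℕ} {V' L : Subgroup G} {ε : (Fin n → ZMod 2) → G} (ev : EvenSet n V' L ε)

/-- the permutations induced by a subgroup `A` -/
def Hq (ε : (Fin n → ZMod 2) → G) (A : Subgroup G) : Subgroup (Equiv.Perm (Fin n)) where
  carrier := {σ | ∃ g ∈ A, Acts ε g σ}
  one_mem' := ⟨1, one_mem _, Acts.one⟩
  mul_mem' := by
    rintro σ τ ⟨g, hg, h1⟩ ⟨k, hk, h2⟩
    exact ⟨g * k, mul_mem hg hk, h1.mul h2⟩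
  inv_mem' := by
    rintro σ ⟨g, hg, h1⟩
    exact ⟨g⁻¹, inv_mem hg, h1.inv⟩

include h ev

/-- **`v ∈ V_l` is an even set of at most 4 points** -/
theorem wt_le_four (hn : Odd n) (hn3 : 3 ≤ n) {l : ι} (hV : V l ≤ V') {v : G} (hv : v ∈ V l) (hv1 : v ≠ 1)
    (hL : o2 (centralizer ({v} : Set G)) ≤ L) {x : Fin n → ZMod 2} (hx : ε x = v) (h0 : ∑ t, x t = 0) :
    wt x ≤ 4 := by
  set Q := o2 (centralizer ({v} : Set G)) with hQ
  have hcx : ∀ {g : G} {σ : Equiv.Perm (Fin n)}, Acts ε g σ → g * v = v * g → x ∘ σ.symm = x := by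
    intro g σ hg hgv
    refine even_unique ev hn (sum_comp σ h0) h0 ?_
    rw [← hg x, hx, hgv, mul_inv_cancel_right]
  have hH : Hc x (Hq ε Q) := by
    refine ⟨?_, ?_, ?_⟩
    · rintro σ ⟨g, hg, hσ⟩
      obtain ⟨s, hs⟩ := o2_isPGroup (centralizer ({v} : Set G)) ⟨g, hg⟩
      have hs' : g ^ 2 ^ s = 1 := by simpa using congrArg Subtype.val hs
      refine ⟨s, ev.acts_unique hn3 (g := g ^ 2 ^ s) (acts_pow ev hσ _) ?_⟩
      rw [hs']
      exact Acts.one
    · rintro σ ⟨g, hg, hσ⟩ t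
      have h1 := congrFun (hcx hσ (mem_cent.1 (o2_le _ hg))) (σ t)
      rw [Function.comp_apply, Equiv.symm_apply_apply] at h1
      exact h1.symm
    · rintro d e hde σ ⟨g, hg, hσ⟩
      obtain ⟨p, hp, hpa⟩ := ev.full (Equiv.swap d e)
      have h1 : p * v = v * p := by
        have h2 := hpa x
        have h3 : x ∘ (Equiv.swap d e).symm = x := by
          funext t
          rw [Function.comp_apply, Equiv.symm_swap]
          by_cases ht : t = d
          · rw [ht, Equiv.swap_apply_left, hde]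
          by_cases ht' : t = e
          · rw [ht', Equiv.swap_apply_right, hde]
          rw [Equiv.swap_apply_of_ne_of_ne ht ht']
        rw [h3, hx] at h2
        exact mul_inv_eq_iff_eq_mul.1 h2
      have h2 : p * g * p⁻¹ ∈ Q := (mem_normalizer_iff.1 (le_normalizer_o2 _ (mem_cent.2 h1)) g).1 hg
      have h3 := hpa.conj hσ
      rw [Equiv.swap_inv] at h3
      exact ⟨_, h2, h3⟩
  refine hH.wt_le hn h0 ?_
  obtain ⟨g, hg, y, hy, hgy⟩ := h.WV l v hv hv1
  have hgQ := h.KK_le_q hv hv1 hg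
  obtain ⟨σ, hσ⟩ := ev.perm g (hL hgQ)
  refine ⟨σ, ⟨g, hgQ, hσ⟩, ?_⟩
  rintro rfl
  exact hgy (mem_centralizer_iff.1 (ev.acts_one_iff.1 hσ) y (hV hy)).symm

/-- a permutation of the three points of `V_l` fixes their union -/
theorem union_fix (hn : Odd n) {l : ι} {v v' : G} (hv : v ∈ V l) (hv' : v' ∈ V l) (hv1 : v ≠ 1)
    (hv1' : v' ≠ 1) (hvv : v ≠ v') {x x' : Fin n → ZMod 2} (hx : ε x = v) (hx0 : ∑ t, x t = 0)
    (hx' : ε x' = v') (hx0' : ∑ t, x' t = 0) {g : G} {σ : Equiv.Perm (Fin n)} (hσ : Acts ε g σ)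
    (hg : ∀ y ∈ V l, g * y * g⁻¹ ∈ V l) : g * ε (x + x' + x * x') * g⁻¹ = ε (x + x' + x * x') := by
  have hs : ∑ t, (x + x') t = 0 := by
    have : ∑ t, (x + x') t = ∑ t, x t + ∑ t, x' t := Finset.sum_add_distrib
    rw [this, hx0, hx0', add_zero]
  have key : ∀ {y : Fin n → ZMod 2}, ∑ t, y t = 0 → ε y ∈ V l → ε y ≠ 1 →
      y ∘ σ.symm = x ∨ y ∘ σ.symm = x' ∨ y ∘ σ.symm = x + x' := by
    intro y hy hyV hy1
    have h1 := hσ y
    have h2 := hg _ hyV
    have h3 : g * ε y * g⁻¹ ≠ 1 := fun h0 => hy1 (by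
      calc ε y = g⁻¹ * (g * ε y * g⁻¹) * g := by group
        _ = 1 := by rw [h0]; group)
    rcases h.cases4 hv hv' hv1 hv1' hvv h2 with h4 | h4 | h4 | h4
    · exact absurd h4 h3
    · left
      exact even_unique ev hn (sum_comp σ hy) hx0 (by rw [← h1, h4, hx])
    · right; left
      exact even_unique ev hn (sum_comp σ hy) hx0' (by rw [← h1, h4, hx'])
    · right; right
      exact even_unique ev hn (sum_comp σ hy) hs (by rw [← h1, h4, ev.add, hx, hx'])
  have k1 := key hx0 (by rw [hx]; exact hv) (by rw [hx]; exact hv1)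
  have k2 := key hx0' (by rw [hx']; exact hv') (by rw [hx']; exact hv1')
  have hne : x ∘ σ.symm ≠ x' ∘ σ.symm := by
    intro h0
    apply hvv
    have h1 : x = x' := by
      funext t
      have := congrFun h0 (σ t)
      rwa [Function.comp_apply, Function.comp_apply, Equiv.symm_apply_apply] at this
    rw [← hx, ← hx', h1]
  rw [hσ]
  congr 1
  have e : (x + x' + x * x') ∘ σ.symm = x ∘ σ.symm + x' ∘ σ.symm + (x ∘ σ.symm) * (x' ∘ σ.symm) := rfl
  rw [e]
  have z1 : ∀ a b : ZMod 2, b + a + b * a = a + b + a * b := by decide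
  have z2 : ∀ a b : ZMod 2, a + (a + b) + a * (a + b) = a + b + a * b := by decide
  have z3 : ∀ a b : ZMod 2, b + (a + b) + b * (a + b) = a + b + a * b := by decide
  have z4 : ∀ a b : ZMod 2, (a + b) + a + (a + b) * a = a + b + a * b := by decide
  have z5 : ∀ a b : ZMod 2, (a + b) + b + (a + b) * b = a + b + a * b := by decide
  rcases k1 with h1 | h1 | h1 <;> rcases k2 with h2 | h2 | h2
  · exact absurd (h1.trans h2.symm) hne
  · rw [h1, h2]
  · rw [h1, h2]; exact funext fun t => z2 _ _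
  · rw [h1, h2]; exact funext fun t => z1 _ _
  · exact absurd (h1.trans h2.symm) hne
  · rw [h1, h2]; exact funext fun t => z3 _ _
  · rw [h1, h2]; exact funext fun t => z4 _ _
  · rw [h1, h2]; exact funext fun t => z5 _ _
  · exact absurd (h1.trans h2.symm) hne

end main

section fin

variable [Finite G] {S : Sylow 2 G} {Q : Subgroup G} {ι : Type} {Z : ι → Subgroup G} {x z : ι → G}
variable [Finite ι] {D : Dat S Q Z x z} {V : ι → Subgroup G} (R : Rd D V)
  {n : ℕ} {V' L : Subgroup G} {ε : (Fin n → ZMod 2) → G} (ev : EvenSet n V' L ε)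
include R ev

/-- **The END.** -/
theorem end_false (hn : Odd n) (hn9 : 9 ≤ n) {i l : ι} (hl : l ≠ i) (hι : ∀ i : ι, ∃ j, j ≠ i)
    {a b : Fin n} (hab : a ≠ b) (hz : z i = rr ε a b) (hL : centralizer ({z i} : Set G) ≤ L)
    (hV : V l ≤ V') : False := by
  have hn3 : 3 ≤ n := by omega
  have hfr := R.fr
  obtain ⟨v, hv, v', hv', hv1, hv1', hvv⟩ := hfr.exists_two l
  obtain ⟨x, hx, hx0⟩ := exists_even ev hn (hV hv)
  obtain ⟨x', hx', hx0'⟩ := exists_even ev hn (hV hv')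
  have hs : ∑ t, (x + x') t = 0 := by
    have : ∑ t, (x + x') t = ∑ t, x t + ∑ t, x' t := Finset.sum_add_distrib
    rw [this, hx0, hx0', add_zero]
  have hvv1 : v * v' ≠ 1 := fun h0 => hvv (by
    have h1 := hfr.sq l v' hv'
    exact mul_right_cancel (h0.trans h1.symm))
  have hQL : ∀ {l' : ι}, l' ≠ i → ∀ {w : G}, w ∈ V l' → w ≠ 1 → o2 (centralizer ({w} : Set G)) ≤ L :=
    fun {l'} hl' {w} hw hw1 => (hfr.q_le (Ne.symm hl') hw hw1 (R.zV i)).trans hL
  have hwt : ∀ {w : G} {y : Fin n → ZMod 2}, w ∈ V l → w ≠ 1 → ε y = w → ∑ t, y t = 0 → 2 ≤ wt y ∧ wt y ≤ 4 := by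
    intro w y hw hw1 hy hy0
    refine ⟨two_le_wt hy0 ?_, wt_le_four hfr ev hn hn3 hV hw hw1 (hQL hl hw hw1) hy hy0⟩
    rintro rfl
    exact hw1 (by rw [← hy, ev.zero])
  have w1 := hwt hv hv1 hx hx0
  have w2 := hwt hv' hv1' hx' hx0'
  have w3 := hwt (mul_mem hv hv') hvv1 (by rw [ev.add, hx, hx']) hs
  have w4 := wt_union x x'
  set u := x + x' + x * x' with hu
  set e := ε u with he
  -- `e ≠ 1`, `e ≠ z i`
  have he1 : e ≠ 1 := by
    intro h0
    rcases (ev.ker u).1 h0 with h1 | h1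
    · rw [h1, wt_zero] at w4; omega
    · have h2 := wt_add_one (0 : Fin n → ZMod 2)
      rw [zero_add, wt_zero] at h2
      rw [h1] at w4; omega
  have hei : e ≠ z i := by
    intro h0
    have h1 : ε u = ε (Pi.single a 1 + Pi.single b 1) := (h0.trans hz).trans (ev.add _ _).symm
    have h2 : wt (Pi.single a 1 + Pi.single b 1 : Fin n → ZMod 2) = 2 := wt_single_add hab
    have h3 := wt_add_one (Pi.single a 1 + Pi.single b 1 : Fin n → ZMod 2)
    rcases ev.eq_iff.1 h1 with h4 | h4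
    · rw [h4] at w4; omega
    · rw [h4] at w4; omega
  -- invariance
  have hinv : ∀ g ∈ L, (∀ y ∈ V l, g * y * g⁻¹ ∈ V l) → g * e * g⁻¹ = e := by
    intro g hg hgV
    obtain ⟨σ, hσ⟩ := ev.perm g hg
    exact union_fix hfr ev hn hv hv' hv1 hv1' hvv hx hx0 hx' hx0' hσ hgV
  have heE : e ∈ zc (S0 (S : Subgroup G) Z) := by
    refine R.mem_E_of le_rfl (ev.sq u) fun t ht => ?_
    have h1 : t ∈ centralizer ({z i} : Set G) := mem_cent.2 ((mem_zc.1 (D.z_mem_E i)).2.1 t ht)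
    have h2 := hinv t (hL h1) fun y hy => (mem_normalizer_iff.1 (R.S0_norm l ht) y).1 hy
    exact (mul_inv_eq_iff_eq_mul.1 h2).symm
  obtain ⟨l', hl', e', he', hee⟩ := R.exists_comp hι heE he1 hei
  obtain ⟨w, hw, hw1, hzw⟩ := hfr.exists_other (i := l') (z l')
  obtain ⟨g, hg, hgz⟩ := hfr.move hw (R.zV l') hw1 (D.z1 l') (Ne.symm hzw)
  have hgQ := hfr.KK_le_q hw hw1 hg
  have hge' : g * e' * g⁻¹ = e' := Big.conj_of_comm (hfr.Vo_cent hw hw1 he' hgQ)
  have hgV : ∀ y ∈ V l, g * y * g⁻¹ ∈ V l := by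
    intro y hy
    by_cases hll : l = l'
    · subst hll
      rcases hfr.KK_act hw hg (hfr.VQ l l w hw hw1 hy) with h1 | h1
      · rw [h1]; exact hy
      · rw [h1]; exact mul_mem hw hy
    · rw [Big.conj_of_comm (hfr.Qc l' l hll w hw hw1 g hgQ y hy)]
      exact hy
  have h1 := hinv g (hQL hl' hw hw1 hgQ) hgV
  apply hw1
  have h2 : g * e * g⁻¹ = w * e := by
    rw [hee]
    calc g * (z l' * e') * g⁻¹ = (g * z l' * g⁻¹) * (g * e' * g⁻¹) := by group
      _ = w * (z l' * e') := by rw [hgz, hge']; group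
  rw [h1] at h2
  exact (mul_eq_right.1 h2.symm)

end fin

end Cfsg.Agent.Omega.IId.SymMany
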