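import Cfsg.Agent.Omega.IId.SymMany.Two
import Cfsg.Agent.Omega.IId.SymMany.Three

/-!
# II.d: `WrSymMany K`

* `wrSymMany` : `Sym.WrSymMany K`;
* `wrSymBig` : `Sym.WrSymBig K`.
There is no configuration (`k = 2`, `m' ≥ 3` included).  No hypotheses.
-/

set_option autoImplicit false

namespace Cfsg.Agent.Omega.IId.SymMany

open Subgroup Cfsg Cfsg.Agent.ZN.ChoiceBase
open Cfsg.Agent.ZN (o2 zc zl)
open Cfsg.Agent.Omega.MinPar Cfsg.Agent.Omega.FFThm Cfsg.Agent.Omega.Frame
open Cfsg.Agent.Omega.IId.Sym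

universe u

/-- **`WrSymBig K`**: there is no configuration. -/
theorem wrSymBig {K : Cls.{u}} : WrSymBig K := by
  intro G _ _ S S' hH P P' hp F _ _ _ k m' M M' hk hm' hF hb
  exfalso
  rcases Nat.lt_or_ge 2 m' with h | h
  · exact three_false hH hp M M' hk h hF
  · obtain rfl : m' = 2 := by omega
    exact two_false hH hp M M' (by omega) hF

/-- **`WrSymMany K`** -/
theorem wrSymMany {K : Cls.{u}} : WrSymMany K := by
  intro G _ _ S S' hH P P' hp F _ _ _ k m' M M' hk hm' hF
  exfalso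
  rcases Nat.lt_or_ge 2 m' with h | h
  · exact three_false hH hp M M' (by omega) h hF
  · obtain rfl : m' = 2 := by omega
    exact two_false hH hp M M' hk hF

/-- the old form -/
theorem wrSymMany_of {K : Cls.{u}} (_ : NSix.HTwo.Main.Steps K) (_ : NO3S.SN.Two K) : WrSymMany K := wrSymMany

/-- the old form -/
theorem wrSymBig_of {K : Cls.{u}} (_ : NSix.HTwo.Main.Steps K) (_ : NO3S.SN.Two K) : WrSymBig K := wrSymBig

end Cfsg.Agent.Omega.IId.SymMany
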