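import Mathlib

/-!
# A 2-group of permutations normalised by `Sym(B) × Sym(Bᶜ)`, `|Bᶜ|` odd

`x : Fin n → ZMod 2` (the characteristic function of `B`, `∑ x = 0`, `n` odd), `H` a group of permutations fixing `x`,
all elements of 2-power order, normalised by the transpositions `(d e)`, `x d = x e`; `H ≠ 1`: then `|B| ≤ 4`.
-/

set_option autoImplicit false

namespace Cfsg.Agent.Omega.IId.SymMany

open Equiv

/-- the number of points of `x` -/
def wt {n : ℕ} (x : Fin n → ZMod 2) : ℕ := ∑ t, (x t).val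

theorem z2c (x : ZMod 2) : x = 0 ∨ x = 1 := by
  revert x
  decide

theorem wt_union {n : ℕ} (x y : Fin n → ZMod 2) :
    wt x + wt y + wt (x + y) = 2 * wt (x + y + x * y) := by
  have key : ∀ a b : ZMod 2, a.val + b.val + (a + b).val = 2 * (a + b + a * b).val := by decide
  unfold wt
  rw [← Finset.sum_add_distrib, ← Finset.sum_add_distrib, Finset.mul_sum]
  exact Finset.sum_congr rfl fun t _ => key _ _

theorem wt_add_one {n : ℕ} (x : Fin n → ZMod 2) : wt x + wt (x + 1) = n := by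
  have key : ∀ a : ZMod 2, a.val + (a + 1).val = 1 := by decide
  unfold wt
  rw [← Finset.sum_add_distrib]
  calc ∑ t, ((x t).val + ((x + 1) t).val) = ∑ _t : Fin n, 1 := Finset.sum_congr rfl fun t _ => key _
    _ = n := by simp

theorem wt_zero {n : ℕ} : wt (0 : Fin n → ZMod 2) = 0 := by
  unfold wt
  exact Finset.sum_eq_zero fun t _ => by simp

theorem wt_single_add {n : ℕ} {i j : Fin n} (hij : i ≠ j) :
    wt (Pi.single i 1 + Pi.single j 1 : Fin n → ZMod 2) = 2 := by
  classical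
  have h1 : ∀ t, ((Pi.single i 1 + Pi.single j 1 : Fin n → ZMod 2) t).val =
      (if t = i then 1 else 0) + if t = j then 1 else 0 := by
    intro t
    rw [Pi.add_apply]
    by_cases h : t = i
    · subst h
      rw [Pi.single_eq_same, Pi.single_eq_of_ne hij, if_pos rfl, if_neg hij]
      decide
    · rw [Pi.single_eq_of_ne h, if_neg h]
      by_cases h' : t = j
      · subst h'
        rw [Pi.single_eq_same, if_pos rfl]
        decide
      · rw [Pi.single_eq_of_ne h', if_neg h']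
        decide
  unfold wt
  rw [Finset.sum_congr rfl fun t _ => h1 t, Finset.sum_add_distrib, Finset.sum_ite_eq', Finset.sum_ite_eq']
  simp

/-- a nonzero even set has at least two points -/
theorem two_le_wt {n : ℕ} {x : Fin n → ZMod 2} (h0 : ∑ t, x t = 0) (hx : x ≠ 0) : 2 ≤ wt x := by
  have h1 : ((wt x : ℕ) : ZMod 2) = 0 := by
    unfold wt
    rw [Nat.cast_sum, ← h0]
    exact Finset.sum_congr rfl fun t _ => ZMod.natCast_zmod_val _
  have h2 : wt x ≠ 0 := by
    intro h
    apply hx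
    funext t
    have h3 := (Finset.sum_eq_zero_iff.1 h) t (Finset.mem_univ t)
    exact (ZMod.val_eq_zero _).1 h3
  have h3 : 2 ∣ wt x := (ZMod.natCast_eq_zero_iff _ _).1 h1
  omega

section lemC

variable {n : ℕ} {x : Fin n → ZMod 2} {H : Subgroup (Perm (Fin n))}

/-- the hypotheses -/
structure Hc (x : Fin n → ZMod 2) (H : Subgroup (Perm (Fin n))) : Prop where
  two : ∀ σ ∈ H, ∃ s : ℕ, σ ^ (2 ^ s) = 1
  fix : ∀ σ ∈ H, ∀ t, x (σ t) = x t
  norm : ∀ d e, x d = x e → ∀ σ ∈ H, swap d e * σ * swap d e ∈ H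

variable (h : Hc x H)
include h

theorem Hc.mem {σ : Perm (Fin n)} (hσ : σ ∈ H) {d e : Fin n} (he : x d = x e) :
    swap (σ d) (σ e) * swap d e ∈ H := by
  have h1 := H.mul_mem hσ (h.norm d e he σ⁻¹ (H.inv_mem hσ))
  have h2 : σ * (swap d e * σ⁻¹ * swap d e) = swap (σ d) (σ e) * swap d e := by
    rw [← mul_assoc, ← mul_assoc, ← Equiv.swap_apply_apply]
  rwa [h2] at h1

omit h in
/-- `(a b)(b c)` is no 2-element -/
theorem three_cycle {a b c : Fin n} (hab : a ≠ b) (hbc : b ≠ c) (hac : a ≠ c) (s : ℕ)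
    (h1 : (swap a b * swap b c) ^ (2 ^ s) = 1) : False := by
  set ρ := swap a b * swap b c with hρ
  have e1 : ρ a = b := by
    rw [hρ, Perm.mul_apply, swap_apply_of_ne_of_ne hab hac, swap_apply_left]
  have e2 : ρ b = c := by
    rw [hρ, Perm.mul_apply, swap_apply_left, swap_apply_of_ne_of_ne hac.symm hbc.symm]
  have e3 : ρ c = a := by
    rw [hρ, Perm.mul_apply, swap_apply_right, swap_apply_right]
  have h3 : ρ ^ 3 = 1 := by
    ext t
    rw [pow_succ, pow_two, Perm.mul_apply, Perm.mul_apply]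
    by_cases ha : t = a
    · subst ha; rw [e1, e2, e3]; rfl
    by_cases hb : t = b
    · subst hb; rw [e2, e3, e1]; rfl
    by_cases hc : t = c
    · subst hc; rw [e3, e1, e2]; rfl
    have e4 : ρ t = t := by
      rw [hρ, Perm.mul_apply, swap_apply_of_ne_of_ne hb hc, swap_apply_of_ne_of_ne ha hb]
    rw [e4, e4, e4]
    rfl
  have h4 : orderOf ρ ∣ 3 := orderOf_dvd_of_pow_eq_one h3
  have h5 : orderOf ρ ∣ 2 ^ s := orderOf_dvd_of_pow_eq_one h1
  have h6 : Nat.Coprime 3 (2 ^ s) := Nat.Coprime.pow_right s (by norm_num)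
  have h7 : orderOf ρ = 1 := Nat.eq_one_of_dvd_coprimes h6 h4 h5
  rw [orderOf_eq_one_iff] at h7
  rw [h7] at e1
  exact hab e1

/-- `σ² = 1` -/
theorem Hc.inv {σ : Perm (Fin n)} (hσ : σ ∈ H) {d : Fin n} (hd : σ d ≠ d) : σ (σ d) = d := by
  by_contra hne
  set e := σ d with he
  have h1 := h.mem hσ (d := d) (e := e) (h.fix σ hσ d).symm
  rw [← he, swap_comm e (σ e), swap_comm d e] at h1
  obtain ⟨s, hs⟩ := h.two _ h1
  exact three_cycle (fun h2 => hd (σ.injective (h2.trans he))) hd (fun h2 => hne h2) s hs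

/-- a moved point moves its class -/
theorem Hc.move {σ : Perm (Fin n)} (hσ : σ ∈ H) {d e : Fin n} (hd : σ d ≠ d) (hde : x d = x e) : σ e ≠ e := by
  intro hee
  have hne : d ≠ e := fun h1 => hd (by rw [h1]; exact hee)
  have hne2 : σ d ≠ e := fun h1 => hne (σ.injective (h1.trans hee.symm))
  have h1 := h.mem hσ hde
  rw [hee, swap_comm d e] at h1
  obtain ⟨s, hs⟩ := h.two _ h1
  exact three_cycle hne2 hne.symm hd s hs

/-- the points off `B` are fixed -/
theorem Hc.fix0 (hn : Odd n) (h0 : ∑ t, x t = 0) {σ : Perm (Fin n)} (hσ : σ ∈ H) {d : Fin n} (hd : x d = 0) :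
    σ d = d := by
  by_contra hne
  have h1 : ∀ e, x e = 0 → σ e ≠ e := fun e he => h.move hσ hne (hd.trans he.symm)
  -- the number of the points off `B` is odd
  have h2 : ∑ t ∈ Finset.univ.filter (fun t => x t = 0), (1 : ZMod 2) = 0 := by
    refine Finset.sum_involution (fun t _ => σ t) (fun t _ => by decide) (fun t ht _ => ?_) (fun t ht => ?_)
      (fun t ht => ?_)
    · exact h1 t (Finset.mem_filter.1 ht).2
    · exact Finset.mem_filter.2 ⟨Finset.mem_univ _, (h.fix σ hσ t).trans (Finset.mem_filter.1 ht).2⟩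
    · exact h.inv hσ (h1 t (Finset.mem_filter.1 ht).2)
  have h3 : ∑ t : Fin n, (x t + 1) = ∑ t ∈ Finset.univ.filter (fun t => x t = 0), (1 : ZMod 2) := by
    rw [Finset.sum_filter]
    refine Finset.sum_congr rfl fun t _ => ?_
    rcases z2c (x t) with h4 | h4
    · rw [h4, if_pos rfl]; decide
    · rw [h4, if_neg (by decide)]; decide
  rw [h2, Finset.sum_add_distrib, h0, zero_add, Finset.sum_const, Finset.card_univ, Fintype.card_fin,
    nsmul_eq_mul, mul_one] at h3
  have h4 := (ZMod.natCast_eq_zero_iff _ _).1 h3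
  obtain ⟨k, hk⟩ := hn
  omega

/-- **`|B| ≤ 4`** -/
theorem Hc.wt_le (hn : Odd n) (h0 : ∑ t, x t = 0) (hne : ∃ σ ∈ H, σ ≠ 1) : wt x ≤ 4 := by
  classical
  obtain ⟨σ, hσ, hσ1⟩ := hne
  obtain ⟨d, hd⟩ : ∃ d, σ d ≠ d := by
    by_contra hcon
    push Not at hcon
    exact hσ1 (Equiv.ext hcon)
  have hd1 : x d = 1 := (z2c (x d)).resolve_left fun h1 => hd (h.fix0 hn h0 hσ h1)
  by_contra hw
  push Not at hw
  set B := Finset.univ.filter (fun t => x t = 1) with hB
  have hcard : B.card = wt x := by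
    rw [hB, Finset.card_filter, wt]
    refine Finset.sum_congr rfl fun t _ => ?_
    rcases z2c (x t) with h4 | h4
    · rw [h4, if_neg (by decide)]; decide
    · rw [h4, if_pos rfl]; decide
  have hex : ∀ s : Finset (Fin n), s.card ≤ 4 → ∃ e ∈ B, e ∉ s := by
    intro s hs
    by_contra hcon
    push Not at hcon
    have h1 := Finset.card_le_card (show B ⊆ s from fun t ht => hcon t ht)
    omega
  obtain ⟨e, heB, he⟩ := hex {d, σ d} (Finset.card_le_two.trans (by norm_num))
  rw [Finset.mem_insert, Finset.mem_singleton, not_or] at he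
  obtain ⟨hed, heσ⟩ := he
  have he1 : x e = 1 := (Finset.mem_filter.1 heB).2
  have hmv : ∀ t, x t = 1 → σ t ≠ t := fun t ht => h.move hσ hd (hd1.trans ht.symm)
  have hρ := h.mem hσ (hd1.trans he1.symm)
  set ρ := swap (σ d) (σ e) * swap d e with hρd
  have h1 : ρ d = e := by
    rw [hρd, Perm.mul_apply, swap_apply_left, swap_apply_of_ne_of_ne heσ (Ne.symm (hmv e he1))]
  obtain ⟨f, hfB, hf⟩ := hex {d, e, σ d, σ e} (Finset.card_le_four)
  simp only [Finset.mem_insert, Finset.mem_singleton, not_or] at hf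
  obtain ⟨f1, f2, f3, f4⟩ := hf
  have h2 : ρ f = f := by
    rw [hρd, Perm.mul_apply, swap_apply_of_ne_of_ne f1 f2, swap_apply_of_ne_of_ne f3 f4]
  exact h.move hρ (d := d) (e := f) (by rw [h1]; exact hed) (hd1.trans (Finset.mem_filter.1 hfB).2.symm) h2

end lemC

end Cfsg.Agent.Omega.IId.SymMany
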