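import Cfsg.Agent.Omega.NSix.HT.Main
import Cfsg.Agent.Omega.S5.NatBig

/-!
# `C_G(r_ij) ≤ N_G(V)` for a free member `S_{2^m+1}`, `m ≥ 3`, which is moved by some `WP ε i j` (partner-free)

(H2) fails: `HT.Main.pos_false` (helper605 and others).  (H2) holds: `Zero.sixL`, `EndL.SixL.nn_le`.
-/

set_option autoImplicit false

namespace Cfsg.Agent.Omega.IId.SymMany

open Subgroup Cfsg Cfsg.Agent.Omega.MinPar
open Cfsg.Agent.ZN (o2 zc zl)
open Cfsg.Agent.Omega.Frame (Ctx Cls)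
open Cfsg.Agent.Omega.S5.Def Cfsg.Agent.Omega.S5.Syl
open Cfsg.Agent.Omega.S5.NatBig (Facts)
open Cfsg.Agent.Omega.NSix.Base Cfsg.Agent.Omega.NSix.Basic
open Cfsg.Agent.Omega.NSix.Zero (WP)
open Cfsg.Agent.Omega.NSix.Engine (D4)

universe u

/-- **`C_G(r_ij) ≤ N_G(V)`** -/
theorem nn_le {G : Type u} [Group G] [Finite G] (hG : IsCharacteristicTwoType G) (S : Sylow 2 G)
    {P : Subgroup G} (hP : IsParS (S : Subgroup G) P) {m : ℕ} (hm : 3 ≤ m) {ε : (Fin (2 ^ m + 1) → ZMod 2) → G}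
    (ev : EvenSet (2 ^ m + 1) (zl (S : Subgroup G) P) P ε) (h0 : Fix0 ε (S : Subgroup G)) (Fa : Facts ε P)
    (mov : ∃ i j, i ≠ j ∧ ∃ g ∈ WP ε i j, g * g ∈ zpowers (rr ε i j) ∧
      ¬ g ∈ centralizer (zl (S : Subgroup G) P : Set G)) :
    ∀ i j, i ≠ j → NN ε i j ≤ normalizer (zl (S : Subgroup G) P : Set G) := by
  have h5 : 5 ≤ 2 ^ m + 1 := five_le (by omega)
  have h7 : 7 ≤ 2 ^ m + 1 := by
    have : 2 ^ 3 ≤ 2 ^ m := Nat.pow_le_pow_right (by norm_num) hm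
    omega
  have hodd : Odd (2 ^ m + 1) := Even.add_one (Nat.even_pow.mpr ⟨even_two, by omega⟩)
  have hZ : zc (S : Subgroup G) ≤ zl (S : Subgroup G) P := MinSimple.VModule.zc_le_zl _ _
  have hpair : ∀ i j k, i ≠ j → k ≠ i → k ≠ j → ∀ q ∈ o2 (NN ε i j), q * zz ε k = zz ε k * q :=
    fun i j k hij hki hkj q hq => Fa.pair i j hij k hki hkj q hq
  have hH : NSix.Engine.Hyp (zl (S : Subgroup G) P) P ε :=
    NSix.Engine.Hyp.of hG h5 hodd ev S hP.le hZ hpair Fa.le mov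
  by_cases hcom : ∃ i j k l, D4 i j k l ∧ ∀ u ∈ UU ε i j, ∀ y ∈ UU ε k l, u * y = y * u
  · obtain ⟨a, b, c, d, hD, hc⟩ := hcom
    have h6 := NSix.Zero.sixL hG hm ev S hP.le h0 hZ hpair Fa.le
      (fun i j k l hij hkl hik hil hjk hjl => hH.hq_of_comm
        (fun {_ _ _ _} hD' => hH.comm_transfer hD hD' hc) ⟨hij, hik, hil, hjk, hjl, hkl⟩)
      (by obtain ⟨i, j, hij, g, hg, -, hgV⟩ := mov; exact ⟨i, j, hij, g, hg, hgV⟩)
    exact fun i j hij => h6.nn_le hodd h7 hij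
  · exfalso
    push Not at hcom
    have hpos : NSix.HTwo.Main.Pos S P ε := ⟨hG, hm, hP, hH, h0, fun i j k l hD hc => by
      obtain ⟨u, hu, y, hy, hne⟩ := hcom i j k l hD
      exact hne (hc u hu y hy)⟩
    exact NSix.HT.Main.pos_false hpos

end Cfsg.Agent.Omega.IId.SymMany
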