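import Cfsg.Agent.Omega.IId.SymBig
import Cfsg.Agent.Omega.IId.Big.Of
import Cfsg.Agent.Omega.IId.Big.SylCase
import Cfsg.Agent.Omega.ThmC.TwoEnd

/-!
# `q = 2`: at least three natural factors against one `O₄⁻(2)`-module

`n = ` the pair `{0, 1}`, `{1, n} = line M i`: `|S' : C_{S'}(n)| = 2`, but `N_S(V_i)`, of index `k` in `S`, is a Sylow
2-subgroup of `C_G(n)` (`Big.Syl.stab_sylow` of helper245).
-/

set_option autoImplicit false
set_option linter.unusedSectionVars false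

namespace Cfsg.Agent.Omega.IId.SymMany

open Subgroup Cfsg Cfsg.Agent.ZN.ChoiceBase
open Cfsg.Agent.ZN (o2 zc zl)
open Cfsg.Agent.Omega.MinPar Cfsg.Agent.Omega.FFThm Cfsg.Agent.Omega.Frame
open Cfsg.Agent.Omega.FrameFF (cv Free)
open Cfsg.Agent.Omega.FrameMulti (IsSym IsNat Typed AllTyped)
open Cfsg.Agent.Omega.S5.Mod Cfsg.Agent.Omega.S5.TT Cfsg.Agent.Omega.S5.Types
open Cfsg.Agent.Omega.IId.Sym
open Cfsg.Agent.Omega.IId.Big (Fr)
open Triangle (KK mem_cent mem_KK mem_zpowers_iff_of_sq)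
open scoped commutatorElement

universe u

variable {G : Type u} [Group G]

/-- The component of `b` in the factor `i` is moved by `w`, if `[b, w]` has a coordinate `i`. -/
theorem comp_move {S P V' : Subgroup G} {F : Type} [Field F] {k : ℕ} (M : NatK F S P (zl S P) ⊥ k)
    {I : Set (Fin k)} (hI : Ind M V' I) (hVP : V' ≤ P) {b w : G} (hb : b ∈ zl S P) (hw : w ∈ V') {i : Fin k}
    (h : M.e ⁅b, w⁆ i 0 ≠ 0) : ∃ a ∈ fac M i, w * a ≠ a * w := by
  obtain ⟨a, ha, h7, -⟩ := exists_component M hb i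
  refine ⟨a, ha, fun h0 => h ?_⟩
  obtain ⟨d, -, h10⟩ := hI.act w hw
  have h11 := (e_comm ha.1 (hVP hw) h10 i).2.1
  have h12 := (e_comm hb (hVP hw) h10 i).2.1
  have h13 : ⁅a, w⁆ = 1 := commutatorElement_eq_one_iff_mul_comm.2 h0.symm
  rw [h13, e_one, h7, ← h12] at h11
  exact h11.symm

/-- A 2-subgroup of `C` is not larger than a Sylow 2-subgroup. -/
theorem card_le_of_odd [Finite G] {T C U : Subgroup G} (hTC : T ≤ C) (h : ¬ 2 ∣ T.relIndex C) (hU : IsPGroup 2 U)
    (hUC : U ≤ C) : Nat.card U ≤ Nat.card T := by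
  have hf : Fact (Nat.Prime 2) := ⟨Nat.prime_two⟩
  obtain ⟨a, ha⟩ := IsPGroup.iff_card.1 hU
  have h1 : Nat.card U ∣ Nat.card T * T.relIndex C := by
    rw [Half.card_mul_relIndex hTC]
    exact card_dvd_of_le hUC
  refine Nat.le_of_dvd Nat.card_pos (Nat.Coprime.dvd_of_dvd_mul_right ?_ h1)
  rw [ha]
  exact Nat.Coprime.pow_left a ((Nat.prime_two.coprime_iff_not_dvd).2 h)

variable [Finite G]

/-- **`q = 2`: three or more natural factors against one `O₄⁻(2)`-module.** -/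
theorem two_false {K : Cls.{u}} {S S' : Sylow 2 G}
    (hH : Hyp K S) {P P' : Subgroup G} (hp : Pair S S' P P') {F : Type} [Field F] [Finite F] [CharP F 2]
    {k : ℕ} (M : NatK F (S : Subgroup G) P (zl (S : Subgroup G) P) ⊥ k)
    (M' : SymK (S' : Subgroup G) P' (zl (S' : Subgroup G) P') ⊥ 1 2) (hk : 2 < k)
    (hF : Nat.card F = 2) : False := by
  have hc := hH.ctx.char2
  obtain ⟨t1, t2⟩ := typed_of hH.typed hp
  have f2 : Free (S' : Subgroup G) P' := free_of_sym M' (by omega)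
  have hS' : IsSym (S' : Subgroup G) P' 1 2 := by
    refine ⟨?_⟩
    rw [show cv (S' : Subgroup G) P' = ⊥ from f2]
    exact M'
  have o1 := hp.off hc t2.noOver
  have o2 := hp.symm.off hc t1.noOver
  obtain ⟨N, hN, ⟨b, hb, has⟩, -⟩ := exists_lab5 S' hp.star' hS' f2 hp.le' o2
  obtain ⟨I, hI⟩ := exists_ind M hp.le o1
  have hVP : zl (S' : Subgroup G) P' ≤ P := hp.le.trans hp.star.isLoc.le
  obtain ⟨i, hi, h1⟩ := exists_coord hI hVP hb (N.e_mem (Pi.single 0 1)) (swap_ne has)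
  obtain ⟨w, hw, h2, h3, h4⟩ := Sym.exists_root hI hVP hb hi 1
  have h5 : ⁅b, w⁆ = N.e nn := (Sym.comm_swap has hw).resolve_left (root_ne one_ne_zero h1 h3)
  have hn : N.e nn ∈ line M i := by
    rw [← h5, mem_line]
    exact ⟨h2, h4⟩
  have hn1 : N.e nn ≠ 1 := n_ne_one N
  obtain ⟨a, ha, hne⟩ := comp_move M hI hVP hb hw (i := i) (by
    rw [h3, one_mul]
    exact neg_ne_zero.2 h1)
  have hKK : w ∈ KK (N.e nn) := by
    refine mem_KK.2 ⟨N.comm hw (N.e_mem nn), fun x hx => ?_⟩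
    exact (mem_zpowers_iff_of_sq (by rw [← pow_two]; exact n_sq N)).2 (Sym.supply hN hc hx hw)
  have hC : CC M := ThmC.TwoOf.cc ThmC.stmt hc hp.star M hF
  have hZ := MinSimple.VModule.zc_le_zl (S : Subgroup G) P
  have hnf := line_le M i hn
  have fr : Fr (S : Subgroup G) (fac M) := Big.fr_of hc hp.star hC hF hZ hnf hn1 ⟨a, ha, w, hKK, hne⟩
  have hSP : (S : Subgroup G) ≤ P := hp.star.isLoc.le
  have hSyl := Big.Syl.stab_sylow hc hp.star hC hF fr (by omega) i
  have hle := card_le_of_odd (stab_normalizes_line M hSP i) hSyl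
    (U := (S' : Subgroup G) ⊓ centralizer ({N.e nn} : Set G)) (S'.isPGroup'.to_le inf_le_left) (by
      rw [normalizer_line_eq M hF hn hn1]
      exact inf_le_right)
  have h6 := card_T hN
  have h7 := card_stab M hSP i
  have h8 : Nat.card (S : Subgroup G) = Nat.card (S' : Subgroup G) := Nat.card_congr (Sylow.equiv S S').toEquiv
  have h9 : 0 < Nat.card (stab M i) := Nat.card_pos
  have h10 : k * Nat.card (stab M i) ≤ 2 * Nat.card (stab M i) := by
    rw [← h7, h8, h6]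
    exact Nat.mul_le_mul_left _ hle
  have h11 := Nat.le_of_mul_le_mul_right h10 h9
  omega

end Cfsg.Agent.Omega.IId.SymMany
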